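import Groth.Agent.EtShLib.StrictLocal
import Groth.Agent.SpreadFPLib.Basic
import Groth.Agent.BigEtLib.Compare
import Groth.Agent.AnLib.FlatPullback
import Groth.Prelude.Def_EtZar

/-!
# Etale and Zariski cohomology when all local rings are strictly henselian
-/

set_option autoImplicit false
set_option linter.unusedSectionVars false
set_option linter.style.haveILetI false
set_option backward.isDefEq.respectTransparency false
set_option backward.isDefEq.respectTransparency.types false
set_option maxHeartbeats 1000000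

universe u

open CategoryTheory CategoryTheory.Limits AlgebraicGeometry Opposite TopologicalSpace
open Groth.Agent.EtShLib

namespace EtZarStrictLib

variable {S : Scheme.{u}}

theorem exists_open_lift (s : S) [HenselianLocalRing (S.presheaf.stalk s)]
    [IsSepClosed (IsLocalRing.ResidueField (S.presheaf.stalk s))]
    (V : S.Etale) (v : Fib (S.fromSpecResidueField s) V) :
    ∃ W : S.Opens, s ∈ W ∧ Nonempty ((EtZar.zarToEt S).obj W ⟶ V) := by
  haveI : AlgebraicGeometry.Etale V.hom := V.prop
  obtain ⟨σ, hσ, -⟩ := SubmDescLib.exists_hensel_section (L := S.presheaf.stalk s)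
    (S.residue s).hom Ideal.Quotient.mk_surjective (pullback.snd V.hom (S.fromSpecStalk s))
    (pullback.lift v.hom (Spec.map (S.residue s)) v.w) (pullback.lift_snd _ _ _)
  obtain ⟨W, hsW, f, -, hf⟩ := SpreadFPLib.spread_out (𝟙 S) V.hom (x := s)
    (σ ≫ pullback.fst V.hom (S.fromSpecStalk s)) (by
      rw [Category.assoc, pullback.condition, ← Category.assoc, hσ]
      exact (Category.id_comp _).trans (Category.comp_id _).symm)
  exact ⟨W, hsW, ⟨MorphismProperty.Over.homMk f (hf.trans (Category.comp_id _))⟩⟩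

theorem flat_zarToEt (X : Scheme.{u}) : RepresentablyFlat (EtZar.zarToEt X) := by
  constructor
  intro T
  let mk' : ∀ (U : X.Opens), Set.range T.hom.base ⊆ (U : Set X) → StructuredArrow T (EtZar.zarToEt X) := fun U hU =>
    StructuredArrow.mk (Y := U) (MorphismProperty.Over.homMk (B := (EtZar.zarToEt X).obj U)
      (IsOpenImmersion.lift U.ι T.hom ((Scheme.Opens.range_ι U).symm ▸ hU :)) (IsOpenImmersion.lift_fac _ _ _))
  have hom_eq : ∀ {A : StructuredArrow T (EtZar.zarToEt X)} (a b : T ⟶ (EtZar.zarToEt X).obj A.right), a = b :=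
    fun {A} a b => MorphismProperty.Over.Hom.ext ((cancel_mono A.right.ι).1
      ((MorphismProperty.Over.w a).trans (MorphismProperty.Over.w b).symm))
  have hsub : ∀ A : StructuredArrow T (EtZar.zarToEt X), Set.range T.hom.base ⊆ (A.right : Set X) := fun A => by
    rw [← MorphismProperty.Over.w A.hom]
    rintro _ ⟨z, rfl⟩
    exact ((A.hom.left.base z : _) : (A.right : Scheme.{u})).2
  haveI : Nonempty (StructuredArrow T (EtZar.zarToEt X)) := ⟨mk' ⊤ (Set.subset_univ _)⟩
  refine { cone_objs := fun A B => ?_, cone_maps := fun {A B} f g => ?_ }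
  · let M := mk' (A.right ⊓ B.right) (fun z hz => ⟨hsub A hz, hsub B hz⟩)
    exact ⟨M, StructuredArrow.homMk (homOfLE inf_le_left) (hom_eq _ _),
      StructuredArrow.homMk (homOfLE inf_le_right) (hom_eq _ _), trivial⟩
  · exact ⟨A, 𝟙 A, StructuredArrow.hom_ext _ _ (Subsingleton.elim _ _)⟩

variable (hS : ∀ s : S, EtCoh.IsStrictlyHenselianLocalRing (S.presheaf.stalk s)) [EtZar.ZarCont S]
include hS

theorem epi_resZar_map {F G : EtCoh.Ab S} (α : F ⟶ G) [Epi α] : Epi ((EtZar.resZar S).map α) := by
  suffices h : Sheaf.IsLocallySurjective ((EtZar.resZar S).map α) from Sheaf.epi_of_isLocallySurjective _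
  refine ⟨fun {U} y => ?_⟩
  intro x hx
  obtain ⟨_, _⟩ := hS x
  let ξ := S.fromSpecResidueField x
  haveI := (epi_iff_stalks α).1 inferInstance _ ξ
  let A := (EtZar.zarToEt S).obj U
  let t : Fib ξ A := Fib.mk (U := A) (Spec.map (S.residue x) ≫ Scheme.Opens.fromSpecStalkOfMem U x hx) (by
    show (_ ≫ _) ≫ Scheme.Opens.ι U = _
    rw [Category.assoc, Scheme.Opens.fromSpecStalkOfMem_ι]
    rfl)
  obtain ⟨p, hp⟩ := (AddCommGrpCat.epi_iff_surjective _).1 ‹_›
    (germ (A := AddCommGrpCat.{u + 1}) ξ G A t y)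
  obtain ⟨V, g, v, z, hg, rfl⟩ := exists_germ_below (A := AddCommGrpCat.{u + 1}) ξ p A t
  rw [germ_natural_apply, ← hg, ← germ_res_apply] at hp
  obtain ⟨V', g', v', -, he⟩ := (germ_eq_iff ξ V v _ _).1 hp
  obtain ⟨W, hxW, ⟨k⟩⟩ := exists_open_lift x V' v'
  let l : U ⊓ W ⟶ U := homOfLE inf_le_left
  let m : U ⊓ W ⟶ W := homOfLE inf_le_right
  refine ⟨U ⊓ W, l, ⟨F.obj.map ((EtZar.zarToEt S).map m ≫ k ≫ g').op z, ?_⟩, hx, hxW⟩
  show α.hom.app (op ((EtZar.zarToEt S).obj (U ⊓ W))) _ = G.obj.map ((EtZar.zarToEt S).map l).op y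
  rw [NatTrans.naturality_apply]
  simp only [op_comp, Functor.map_comp, ConcreteCategory.comp_apply]
  rw [he]
  simp only [← ConcreteCategory.comp_apply, ← Functor.map_comp, ← op_comp]
  have e : (((EtZar.zarToEt S).map m ≫ k) ≫ g') ≫ g = (EtZar.zarToEt S).map l :=
    MorphismProperty.Over.Hom.ext ((cancel_mono (Scheme.Opens.ι U)).1
      ((MorphismProperty.Over.w (((((EtZar.zarToEt S).map m) ≫ k) ≫ g') ≫ g)).trans
        (MorphismProperty.Over.w ((EtZar.zarToEt S).map l)).symm :))
  simp only [Category.assoc] at e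
  rw [e]

theorem nonempty_H_equiv (F : EtCoh.Ab S) (p : ℕ) :
    Nonempty (EtCoh.H S F p ≃+ EtZar.H ((EtZar.resZar S).obj F) p) := by
  haveI := flat_zarToEt S
  let R := EtZar.resZar S
  let adj := (EtZar.zarToEt S).sheafAdjunctionContinuous AddCommGrpCat.{u + 1} (Opens.grothendieckTopology S)
    S.smallEtaleTopology
  haveI : R.Additive := { }
  haveI : R.PreservesHomology := by
    haveI : R.IsRightAdjoint := adj.isRightAdjoint
    haveI : R.PreservesEpimorphisms := ⟨fun α hα => epi_resZar_map hS α⟩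
    exact Functor.preservesHomology_of_preservesEpis_and_kernels R
  haveI : R.PreservesInjectiveObjects := by
    haveI : PreservesFiniteLimits ((EtZar.zarToEt S).sheafPullback AddCommGrpCat.{u + 1}
        (Opens.grothendieckTopology S) S.smallEtaleTopology) :=
      AnLib.sheafPullback_preservesFiniteLimits.{u + 1} _ _ _
    exact Functor.preservesInjectiveObjects_of_adjunction_of_preservesMonomorphisms adj
  have hT : IsTerminal (⊤ : S.Opens) := IsTerminal.ofUniqueHom (fun _ => homOfLE le_top) fun _ _ => Subsingleton.elim _ _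
  have hT' : IsTerminal (EtCoh.top S) := MorphismProperty.Over.mkIdTerminal EtCoh.etaleMP S
  let i : (EtZar.zarToEt S).obj ⊤ ≅ EtCoh.top S :=
    MorphismProperty.Over.isoMk S.topIso (by show S.topIso.hom ≫ 𝟙 S = _; rw [Category.comp_id]; rfl)
  let eB := fun (M : EtCoh.Ab S) =>
    (BigEtLib.homEquivTop S.smallEtaleTopology hT' M).trans (M.obj.mapIso i.op).addCommGroupIsoToAddEquiv
  let eS := fun (M : EtZar.Ab S) => BigEtLib.homEquivTop (Opens.grothendieckTopology S) hT M
  exact BigEtLib.nonempty_ext_equiv R (fun M => (eB M).trans (eS (R.obj M)).symm) (fun {M M'} g x => by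
    apply (eS (R.obj M')).injective
    refine ((eS _).apply_symm_apply _).trans ?_
    refine (congrArg (M'.obj.map i.hom.op) (BigEtLib.homEquivTop_comp _ _ g x)).trans ?_
    refine ((NatTrans.naturality_apply g.hom i.hom.op _).symm).trans ?_
    refine Eq.trans ?_ (BigEtLib.homEquivTop_comp (Opens.grothendieckTopology S) hT (R.map g)
      (((eB M).trans (eS (R.obj M)).symm) x)).symm
    exact (congrArg ((R.map g).hom.app (op (⊤ : S.Opens))) ((eS _).apply_symm_apply (eB M x))).symm) F p

end EtZarStrictLib
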